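import Groth.Agent.Lib.LimSys14.SchemeLimit
import Groth.Agent.Lib.LimSys14.AffineZ
import Groth.Agent.Lib.LimH13.NhdLimit

/-!
# A space which is a scheme over a local ring is one over a neighbourhood
-/

set_option autoImplicit false
set_option backward.isDefEq.respectTransparency.types false
set_option backward.isDefEq.respectTransparency false
set_option linter.style.haveILetI false

universe u

open CategoryTheory CategoryTheory.Limits AlgebraicGeometry Opposite

noncomputable section

namespace Groth.Agent.LocRep14

open AlgSp Groth.Agent.AlgSpace Groth.Agent.AlgSpDecent Groth.Agent.LimH13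

variable {U : Scheme.{u}}

abbrev toTop (B : Over U) : B ⟶ Over.mk (𝟙 U) := Over.homMk B.hom

variable {X : Sp U} (q : X ⟶ (yon U).obj (Over.mk (𝟙 U)))

abbrev sub (B : Over U) : Sp U := pullback q ((yon U).map (toTop B))

def subMap {B B' : Over U} (m : B' ⟶ B) : sub q B' ⟶ sub q B :=
  pullback.lift (pullback.fst _ _) (pullback.snd _ _ ≫ (yon U).map m) (by
    rw [pullback.condition, Category.assoc, ← (yon U).map_comp,
      Over.mkIdTerminal.hom_ext (m ≫ toTop B) (toTop B')])

theorem subMap_fst {B B' : Over U} (m : B' ⟶ B) : subMap q m ≫ pullback.fst _ _ = pullback.fst _ _ :=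
  pullback.lift_fst _ _ _

theorem subMap_snd {B B' : Over U} (m : B' ⟶ B) :
    subMap q m ≫ pullback.snd _ _ = pullback.snd _ _ ≫ (yon U).map m := pullback.lift_snd _ _ _

theorem subMap_isPullback {B B' : Over U} (m : B' ⟶ B) :
    IsPullback (subMap q m) (pullback.snd _ _) (pullback.snd _ _) ((yon U).map m) := by
  refine IsPullback.of_right (h₁₂ := pullback.fst q _) (v₁₃ := q)
    (h₂₂ := (yon U).map (toTop B)) ?_ (subMap_snd q m) (IsPullback.of_hasPullback _ _)
  rw [subMap_fst, ← (yon U).map_comp, Over.mkIdTerminal.hom_ext (m ≫ toTop B) (toTop B')]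
  exact IsPullback.of_hasPullback q _

def subF : Over U ⥤ Sp U where
  obj := sub q
  map := subMap q
  map_id B := by
    apply pullback.hom_ext
    · rw [subMap_fst, Category.id_comp]
    · rw [subMap_snd, CategoryTheory.Functor.map_id, Category.id_comp, Category.comp_id]
  map_comp m m' := by
    apply pullback.hom_ext
    · rw [Category.assoc, subMap_fst, subMap_fst, subMap_fst]
    · rw [Category.assoc, subMap_snd, subMap_snd, reassoc_of% (subMap_snd q m), Functor.map_comp]

theorem exists_isRepresentable_stage [QuasiSeparatedSpace U] {J : Type u} [SmallCategory J] [IsCofiltered J]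
    (E : J ⥤ Over U) (o : J) (ho : ∀ j, Nonempty (j ⟶ o)) (c : Cone E) (hc : IsLimit c) (hE : ∀ j, IsAffine (E.obj j).left)
    (hX : IsAlgSpace X) (hqc : IsQuasiCompactMor q) (hqs : IsQuasiSeparatedMor q)
    {G : Over U} (e : (yon U).obj G ≅ sub q c.pt) : ∃ j, (sub q (E.obj j)).obj.IsRepresentable := by
  let W := (yon U).obj (Over.mk (𝟙 U))
  let α : E ⋙ subF q ⟶ E ⋙ yon U :=
    { app := fun i => pullback.snd _ _
      naturality := fun i j f => subMap_snd q (E.map f) }
  let β : E ⋙ subF q ⟶ (Functor.const _).obj X :=
    { app := fun i => pullback.fst _ _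
      naturality := fun i j f => (subMap_fst q (E.map f)).trans (Category.comp_id _).symm }
  let γ : E ⋙ yon U ⟶ (Functor.const _).obj W :=
    { app := fun i => (yon U).map (toTop _)
      naturality := fun i j f => by
        simp only [Functor.comp_map, Functor.const_obj_map, W, ← Functor.map_comp]
        congr 1
        exact Over.mkIdTerminal.hom_ext _ _ }
  let d : Cone (E ⋙ subF q) := (subF q).mapCone c
  have hd : IsLimit d :=
    LimSys14.isLimitOfIsPullback o α β γ (fun j => (IsPullback.of_hasPullback q _).flip)
      (isLimitOfPreserves (yon U) hc) (pullback.snd _ _)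
      (fun j => (subMap_snd q _).symm)
      ho (by
        have e₁ : d.π.app o ≫ β.app o = pullback.fst _ _ := subMap_fst q _
        have e₂ : ((yon U).mapCone c).π.app o ≫ γ.app o = (yon U).map (toTop c.pt) := by
          simp only [γ, Functor.mapCone_π_app, ← Functor.map_comp]
          congr 1
          exact Over.mkIdTerminal.hom_ext _ _
        rw [e₁, e₂]
        exact (IsPullback.of_hasPullback _ _).flip)
  have hD : ∀ i, IsAlgSpace ((E ⋙ subF q).obj i) := fun i =>
    isAlgSpace_baseChange hX (IsAlgSpace.yon_obj _) (IsAlgSpace.yon_obj _) (IsPullback.of_hasPullback _ _)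
  have hDa : ∀ (i j : J) (f : i ⟶ j), IsAffineMor ((E ⋙ subF q).map f) := fun i j f => by
    haveI := hE i
    haveI := hE j
    exact isAffineMor_iff_repWith.2 (repWith_of_isPullback (subMap_isPullback q (E.map f)).flip
      ((repWith_yon_map_iff @IsAffineHom (E.map f)).2 inferInstance))
  have hDc : ∀ i, IsQuasiCompactSp ((E ⋙ subF q).obj i) := fun i => by
    have := hE i
    exact isQuasiCompactSp_of_mor (hD i) (IsAlgSpace.yon_obj _)
      (isQuasiCompactMor_of_isPullback (IsPullback.of_hasPullback _ _) hqc)
      ((isQuasiCompactSp_iff (IsAlgSpace.yon_obj _)).2 (compactSpace_yon_of_affine (E.obj i)))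
  have hDs : ∀ i, IsQuasiSeparatedSp ((E ⋙ subF q).obj i) := fun i => by
    have := hE i
    exact isQuasiSeparatedSp_of_mor
      (isQuasiSeparatedMor_of_isPullback (IsPullback.of_hasPullback q _) hqs)
      (LimSys14.isQuasiSeparatedSp_yon (E.obj i))
  exact LimSys14.exists_isRepresentable d hD hDa hDc hDs hd e

end Groth.Agent.LocRep14
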