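import Groth.Agent.Lib.LocRep14.Stage
import Groth.Agent.Lib.AlgSpace.QCQS

/-!
# Passing between a scheme and its open subschemes
-/

set_option autoImplicit false
set_option backward.isDefEq.respectTransparency.types false
set_option backward.isDefEq.respectTransparency false
set_option linter.style.haveILetI false

universe u

open CategoryTheory CategoryTheory.Limits AlgebraicGeometry Opposite

noncomputable section

namespace Groth.Agent.LocRep14

open AlgSp Groth.Agent.AlgSpace Groth.Agent.AlgSpDecent Groth.Agent.OverBC14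

variable {U S : Scheme.{u}} (g : U ⟶ S)

theorem compactSpace_points_of_L {F : Sp U} (h : IsQuasiCompactSp ((L g).obj F)) :
    CompactSpace (Points F) := by
  obtain ⟨T', p', hT, he, hs⟩ := exists_affine_chart h
  obtain ⟨T, e, p, rfl⟩ := exists_pt g p'
  have hs' : RepWith @Surjective p := by
    refine repWith_of_map (g := g) ?_
    rw [← MorphismProperty.cancel_left_of_respectsIso (RepWith _) ((yon S).map e.hom ≫ (θ g T).inv),
      Category.assoc]
    exact hs
  haveI : IsAffine T.left :=
    haveI : IsIso e.hom.left := inferInstanceAs (IsIso ((Over.forget S).map e.hom))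
    IsAffine.of_isIso (inv e.hom.left)
  exact (surjective_ofPt hs').compactSpace (Points.continuous_ofPt p)

theorem isQuasiSeparatedMor_of_L {F G : Sp U} {f : F ⟶ G} (h : IsQuasiSeparatedMor ((L g).map f)) :
    IsQuasiSeparatedMor f := by
  have sq := isPullback_map g (IsPullback.of_hasPullback f f)
  refine repWith_of_map (g := g) ?_
  have e : (L g).map (pullback.diagonal f) ≫ sq.isoPullback.hom = pullback.diagonal ((L g).map f) := by
    apply pullback.hom_ext
    · rw [Category.assoc, sq.isoPullback_hom_fst, ← Functor.map_comp, pullback.diagonal_fst,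
        pullback.diagonal_fst, CategoryTheory.Functor.map_id]
    · rw [Category.assoc, sq.isoPullback_hom_snd, ← Functor.map_comp, pullback.diagonal_snd,
        pullback.diagonal_snd, CategoryTheory.Functor.map_id]
  exact (repWith_respectsIso_right sq.isoPullback.hom).1 (e ▸ h)

theorem isQuasiCompactMor_of_L {F G : Sp U} (hF : IsAlgSpace F) (hG : IsAlgSpace G) {f : F ⟶ G}
    (h : IsQuasiCompactMor ((L g).map f)) : IsQuasiCompactMor f := by
  refine isQuasiCompactMor_of_affine hF hG fun Z hZ a P fst snd sq => ?_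
  refine compactSpace_points_of_L g ?_
  haveI : IsAffine ((Over.map g).obj Z).left := hZ
  refine h (Z := (L g).obj ((yon U).obj Z)) ((isAlgSpace_L_iff g _).2 (IsAlgSpace.yon_obj _)) ?_
    ((L g).map a) _ _ (isPullback_map g sq)
  refine ⟨(Over.map g).obj Z, (θ g Z).inv, ?_, ?_, inferInstance⟩
  · rw [← Category.comp_id (θ g Z).inv, repWith_respectsIso_left (θ g Z).inv, ← CategoryTheory.Functor.map_id]
    exact repWith_map (by
      rw [← CategoryTheory.Functor.map_id]
      exact (repWith_yon_map_iff _ _).2 (inferInstanceAs (Etale (𝟙 Z.left))))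
  · rw [← Category.comp_id (θ g Z).inv, repWith_respectsIso_left (θ g Z).inv, ← CategoryTheory.Functor.map_id]
    exact repWith_map (by
      rw [← CategoryTheory.Functor.map_id]
      exact (repWith_yon_map_iff _ _).2 (inferInstanceAs (Surjective (𝟙 Z.left))))

/-- A scheme over `U` as a scheme over `S` and the extension of its sheaf. -/
def objIso {B : Over U} {B' : Over S} (e : B.left ≅ B'.left) (w : e.hom ≫ B'.hom = B.hom ≫ g) :
    (L g).obj ((yon U).obj B) ≅ (yon S).obj B' :=
  θ g B ≪≫ (yon S).mapIso (Over.isoMk e w)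

variable {X : Sp S} (q : X ⟶ (yon S).obj (Over.mk (𝟙 S)))

/-- The restriction of a space to `U`, with its base changes. -/
theorem exists_restrict (hX : IsAlgSpace X) (hqc : IsQuasiCompactMor q) (hqs : IsQuasiSeparatedMor q) :
    ∃ (X' : Sp U) (q' : X' ⟶ (yon U).obj (Over.mk (𝟙 U))), IsAlgSpace X' ∧ IsQuasiCompactMor q' ∧
      IsQuasiSeparatedMor q' ∧ ∀ (B : Over U) (B' : Over S) (m : B' ⟶ Over.mk (𝟙 S))
        (e : B.left ≅ B'.left) (_ : e.hom ≫ B'.hom = B.hom ≫ g),
        Nonempty ((L g).obj (sub q' B) ≅ pullback q ((yon S).map m)) := by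
  let ι : Over.mk g ⟶ Over.mk (𝟙 S) := Over.homMk g
  obtain ⟨X', e, he⟩ := exists_L_iso g (pullback.snd q ((yon S).map ι))
  let q' : X' ⟶ (yon U).obj (Over.mk (𝟙 U)) := isTerminalBase.from X'
  have hP : IsAlgSpace (pullback q ((yon S).map ι)) :=
    isAlgSpace_baseChange hX (IsAlgSpace.yon_obj _) (IsAlgSpace.yon_obj _) (IsPullback.of_hasPullback _ _)
  have hX' : IsAlgSpace X' :=
    (isAlgSpace_L_iff g X').1 ((ObjectProperty.prop_iff_of_iso (IsAlgSpace (S := S)) e).2 hP)
  let α : (L g).obj ((yon U).obj (Over.mk (𝟙 U))) ≅ (yon S).obj (Over.mk g) :=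
    objIso g (B := Over.mk (𝟙 U)) (B' := Over.mk g) (Iso.refl _) rfl
  have hα : α.hom = π g ((yon U).obj (Over.mk (𝟙 U))) := by
    rw [← θ_π]
    simp only [α, objIso, Iso.trans_hom, Functor.mapIso_hom]
    congr 2
  have hq' : (L g).map q' ≫ α.hom = π g X' := by rw [hα, L_map_π]
  have sqL : IsPullback (e.hom ≫ pullback.fst _ _) ((L g).map q') q (α.hom ≫ (yon S).map ι) := by
    refine (IsPullback.of_hasPullback q ((yon S).map ι)).of_iso e.symm (Iso.refl _) α.symm (Iso.refl _)
      ?_ ?_ ?_ ?_
    · simp
    · rw [Iso.symm_hom, Iso.symm_hom, Iso.eq_inv_comp, ← Category.assoc, Iso.comp_inv_eq, hq', he]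
    · simp
    · simp
  refine ⟨X', q', hX', isQuasiCompactMor_of_L g hX' (IsAlgSpace.yon_obj _)
    (isQuasiCompactMor_of_isPullback sqL hqc),
    isQuasiSeparatedMor_of_L g (isQuasiSeparatedMor_of_isPullback sqL hqs), fun B B' m e' w => ?_⟩
  let β := objIso g e' w
  have sq := (isPullback_map g (IsPullback.of_hasPullback q' ((yon U).map (toTop B)))).paste_horiz sqL
  have key : IsPullback ((L g).map (pullback.fst q' ((yon U).map (toTop B))) ≫ e.hom ≫ pullback.fst _ _)
      ((L g).map (pullback.snd q' _) ≫ β.hom) q ((yon S).map m) := by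
    refine sq.of_iso (Iso.refl _) (Iso.refl _) β (Iso.refl _) ?_ ?_ ?_ ?_
    · simp
    · simp
    · simp
    · simp only [Iso.refl_hom, Category.comp_id]
      rw [← Category.assoc, hα, L_map_π, ← θ_π]
      simp only [β, objIso, Iso.trans_hom, Functor.mapIso_hom, Category.assoc, ← Functor.map_comp]
      congr 2
      exact Over.mkIdTerminal.hom_ext _ _
  exact ⟨key.isoPullback⟩

end Groth.Agent.LocRep14
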